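import Groth.Agent.H20.RegularFlat
import Groth.Agent.Lib.Regular.Descent
import Groth.Agent.Lib.Regular.Quotient
import Groth.Agent.Lib.Dim.Integral
import Groth.Agent.Lib.Depth.CM
import Mathlib.RingTheory.LocalRing.Module
import Mathlib.RingTheory.TensorProduct.Maps
import Mathlib.RingTheory.Flat.Stability
import Mathlib.RingTheory.Ideal.GoingUp
import Mathlib.Algebra.Algebra.Shrink
import Mathlib.LinearAlgebra.Dual.Lemmas

/-!
# Tensor decompositions of a regular local ring finite over a regular local ring
-/

set_option autoImplicit false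

universe u v w

open TensorProduct IsLocalRing

namespace Groth.Agent.Lib.WildCoprod.Basic

/-- A regular local ring finite over a regular local subring is flat. -/
theorem flat_of_regular {R A : Type v} [CommRing R] [CommRing A] [IsRegularLocalRing R]
    [IsRegularLocalRing A] [Algebra R A] [Module.Finite R A] [FaithfulSMul R A] :
    Module.Flat R A := by
  classical
  haveI : Algebra.IsIntegral R A := Algebra.IsIntegral.of_finite R A
  haveI : IsLocalHom (algebraMap R A) := Algebra.IsIntegral.isLocalHom _ _
  haveI : LocCoh.IsCohenMacaulayLocalRing A := by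
    obtain ⟨rs, hrs, hlen⟩ : ∃ rs : List A,
        Ideal.ofList rs = maximalIdeal A ∧ rs.length = (maximalIdeal A).spanFinrank := by
      have hfg : (maximalIdeal A).FG := IsNoetherian.noetherian _
      refine ⟨(Submodule.FG.finite_generators hfg).toFinset.toList, ?_, ?_⟩
      · simp only [Ideal.ofList, Finset.mem_toList, Set.Finite.mem_toFinset, Set.ofPred_mem_eq]
        exact Submodule.span_generators _
      · rw [Finset.length_toList,
          ← Set.ncard_eq_toFinset_card _ (Submodule.FG.finite_generators hfg),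
          Submodule.FG.generators_ncard hfg]
    refine Groth.Agent.Lib.Depth.CM.isCohenMacaulayLocalRing_of_isRegular
      (Groth.Agent.Lib.Regular.Quotient.isRegular_of_span_eq_maximalIdeal rs hrs hlen) ?_
    rw [hlen, IsRegularLocalRing.spanFinrank_maximalIdeal]
  refine Groth.Agent.H20.RegularFlat.flat_of_supportDim_eq R A A
    Groth.Agent.Lib.Depth.CM.isCohenMacaulayModule_self ?_
  rw [Module.supportDim_self_eq_ringKrullDim,
    ← Groth.Agent.Lib.Dim.Integral.ringKrullDim_eq_of_isIntegral (R := R) (A := A)]
  haveI : Ring.KrullDimLE 0 (A ⧸ (maximalIdeal R).map (algebraMap R A)) :=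
    Ring.KrullDimLE.mk₀ fun P _ => by
      let Q := P.comap (Ideal.Quotient.mk ((maximalIdeal R).map (algebraMap R A)))
      have hle : (maximalIdeal R).map (algebraMap R A) ≤ Q := fun x hx => by
        change Ideal.Quotient.mk _ x ∈ P
        rw [Ideal.Quotient.eq_zero_iff_mem.mpr hx]
        exact zero_mem _
      have hQm : (Q.comap (algebraMap R A)) = maximalIdeal R :=
        ((IsLocalRing.maximalIdeal.isMaximal R).eq_of_le (Ideal.IsPrime.comap (algebraMap R A)).ne_top
          (Ideal.map_le_iff_le_comap.mp hle)).symm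
      haveI : (Q.comap (algebraMap R A)).IsMaximal := hQm ▸ IsLocalRing.maximalIdeal.isMaximal R
      haveI : Q.IsMaximal := Ideal.isMaximal_of_isIntegral_of_isMaximal_comap Q ‹_›
      rw [← Ideal.map_comap_of_surjective _ Ideal.Quotient.mk_surjective P]
      refine (Ideal.map_eq_top_or_isMaximal_of_surjective _ Ideal.Quotient.mk_surjective
        (I := Q) ‹_›).resolve_left ?_
      rw [Ideal.map_comap_of_surjective _ Ideal.Quotient.mk_surjective]
      exact Ideal.IsPrime.ne_top ‹_›
  rw [Module.supportDim_eq_of_equiv (Submodule.quotEquivOfEq _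
      ((maximalIdeal R).map (algebraMap R A)) (by simp)),
    Module.supportDim_quotient_eq_ringKrullDim]
  refine le_trans (add_le_add (b := (0 : WithBot ℕ∞)) ?_ le_rfl) (zero_add _).le
  exact (Ring.krullDimLE_iff (n := 0)).mp ‹_›

variable {R : Type u} {A : Type v} [CommRing R] [CommRing A] [IsRegularLocalRing R]
  [IsRegularLocalRing A] [Algebra R A] [Module.Finite R A]

theorem free_of_regular (hinj : Function.Injective (algebraMap R A)) : Module.Free R A := by
  let R' := (algebraMap R A).range
  let e : R ≃+* R' := RingEquiv.ofBijective (algebraMap R A).rangeRestrict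
    ⟨fun a b h => hinj (congrArg Subtype.val h), (algebraMap R A).rangeRestrict_surjective⟩
  haveI : IsRegularLocalRing R' := IsRegularLocalRing.of_ringEquiv e
  haveI : Module.Finite R' A := by
    obtain ⟨s, hs⟩ := Module.Finite.fg_top (R := R) (M := A)
    refine ⟨⟨s, eq_top_iff.mpr fun x hx0 => ?_⟩⟩
    have hx' : x ∈ Submodule.span R (s : Set A) := hs ▸ Submodule.mem_top
    clear hs hx0
    induction hx' using Submodule.span_induction with
    | mem y hy => exact Submodule.subset_span hy
    | zero => exact zero_mem _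
    | add a b _ _ ha hb => exact add_mem ha hb
    | smul r a _ ha =>
      rw [Algebra.smul_def]
      exact Submodule.smul_mem _ (e r) ha
  haveI : Module.Flat R' A := flat_of_regular
  haveI : Module.Free R' A := Module.free_of_flat_of_isLocalRing
  exact Module.Free.of_basis ((Module.Free.chooseBasis R' A).mapCoeffs e.symm fun c x => by
    rw [Algebra.smul_def]
    change (e (e.symm c) : A) * x = _
    rw [e.apply_symm_apply]
    rfl)

/-- If `A = B ⊗ M` then `B` is free over `R` and regular. -/
theorem free_and_regular (hinj : Function.Injective (algebraMap R A)) (B M : Subalgebra R A)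
    (hbij : Function.Bijective (Algebra.TensorProduct.productMap B.val M.val)) :
    Module.Free R B ∧ IsRegularLocalRing B := by
  haveI : Module.Free R A := free_of_regular hinj
  haveI : Module.Free R (B ⊗[R] M) :=
    Module.Free.of_equiv (LinearEquiv.ofBijective _ hbij :
      (B ⊗[R] M) ≃ₗ[R] A).symm
  have hsub : ∀ N : Subalgebra R A, Module.Finite R N := fun N =>
    Module.Finite.iff_fg.mpr (IsNoetherian.noetherian (Subalgebra.toSubmodule N))
  haveI := hsub B
  haveI := hsub M
  obtain ⟨ε, hε⟩ : ∃ ε : A →ₗ[R] R, ε 1 = 1 := by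
    let b := Module.Free.chooseBasis R A
    obtain ⟨i, hi⟩ : ∃ i, IsUnit (b.repr 1 i) := by
      by_contra! h
      have h1 : (1 : A) ∈ (maximalIdeal R).map (algebraMap R A) := by
        rw [← b.linearCombination_repr 1, Finsupp.linearCombination_apply]
        refine Ideal.sum_mem _ fun i _ => ?_
        beta_reduce
        rw [Algebra.smul_def]
        exact Ideal.mul_mem_right _ _ (Ideal.mem_map_of_mem _ (h i))
      haveI : Algebra.IsIntegral R A := Algebra.IsIntegral.of_finite R A
      obtain ⟨Q, -, hQ, hQm⟩ := Ideal.exists_ideal_over_prime_of_isIntegral (maximalIdeal R)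
        (⊥ : Ideal A) (by simp [Ideal.comap_bot_of_injective _ hinj])
      exact hQ.ne_top ((Ideal.eq_top_iff_one _).mpr (Ideal.map_le_iff_le_comap.mpr hQm.ge h1))
    exact ⟨hi.unit⁻¹.val • b.coord i, by
      rw [LinearMap.smul_apply, Module.Basis.coord_apply, smul_eq_mul, hi.val_inv_mul]⟩
  have hproj : Module.Projective R B := by
    let s : B →ₗ[R] B ⊗[R] M := (TensorProduct.mk R B M).flip 1
    let r : B ⊗[R] M →ₗ[R] B :=
      (TensorProduct.rid R B).toLinearMap ∘ₗ (ε ∘ₗ M.val.toLinearMap).lTensor B
    exact Module.Projective.of_split s r (LinearMap.ext fun b => by simp [s, r, hε])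
  have hprojM : Module.Projective R M := by
    let s : M →ₗ[R] B ⊗[R] M := TensorProduct.mk R B M 1
    let r : B ⊗[R] M →ₗ[R] M :=
      (TensorProduct.lid R M).toLinearMap ∘ₗ (ε ∘ₗ B.val.toLinearMap).rTensor M
    exact Module.Projective.of_split s r (LinearMap.ext fun b => by simp [s, r, hε])
  refine ⟨Module.free_of_flat_of_isLocalRing, ?_⟩
  haveI : Algebra.IsIntegral R A := Algebra.IsIntegral.of_finite R A
  haveI : Algebra.IsIntegral B A := Algebra.IsIntegral.tower_top (R := R)
  haveI : IsLocalHom (algebraMap B A) := Algebra.IsIntegral.isLocalHom _ _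
  haveI : IsLocalRing B := RingHom.domain_isLocalRing (algebraMap B A)
  haveI : IsNoetherianRing B := isNoetherian_of_tower R inferInstance
  haveI : Module.Flat B A := by
    haveI : Module.Flat B (B ⊗[R] M) := inferInstance
    refine Module.Flat.of_linearEquiv (M := B ⊗[R] M) (LinearEquiv.ofBijective
      ({ (Algebra.TensorProduct.productMap B.val M.val).toLinearMap with
          map_smul' := fun c x => ?_ } : B ⊗[R] M →ₗ[B] A) hbij).symm
    induction x using TensorProduct.induction_on with
    | zero => simp
    | tmul b m => simp [TensorProduct.smul_tmul', mul_assoc, Algebra.smul_def]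
    | add x y hx hy =>
      change _ at hx hy
      simp only [smul_add] at hx hy ⊢
      simp only [AddHom.toFun_eq_coe, LinearMap.coe_toAddHom, AlgHom.toLinearMap_apply,
        map_add, smul_eq_mul, mul_add, RingHom.id_apply] at hx hy ⊢
      rw [smul_add, hx, hy]
  exact Groth.Agent.Lib.Regular.Descent.isRegularLocalRing_of_flat A

/-- The coproduct property turns `A` into a tensor product of any member with the subalgebra
generated by the others. -/
theorem bijective_productMap {R : Type u} {A : Type v} [CommRing R] [CommRing A] [Algebra R A]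
    {ι : Type w} (S : ι → Subalgebra R A)
    (hcoprod : ∀ (C : Type (max u v)) [CommRing C] [Algebra R C] (φ : ∀ i, S i →ₐ[R] C),
      ∃! ψ : A →ₐ[R] C, ∀ i (x : S i), ψ x = φ i x) (i : ι) :
    Function.Bijective (Algebra.TensorProduct.productMap (S i).val
      (Algebra.adjoin R (⋃ j ∈ {j | j ≠ i}, (S j : Set A))).val) := by
  classical
  let M := Algebra.adjoin R (⋃ j ∈ {j | j ≠ i}, (S j : Set A))
  have hM : ∀ j, j ≠ i → S j ≤ M := fun j hj x hx =>
    Algebra.subset_adjoin (Set.mem_biUnion (x := j) hj hx)
  let μ := Algebra.TensorProduct.productMap (S i).val M.val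
  let up : S i ⊗[R] M ≃ₐ[R] ULift.{u} (S i ⊗[R] M) := ULift.algEquiv.symm
  let φ : ∀ j, S j →ₐ[R] ULift.{u} (S i ⊗[R] M) := fun j =>
    up.toAlgHom.comp (if h : j = i then
      (Algebra.TensorProduct.includeLeft).comp (Subalgebra.inclusion (h ▸ le_rfl : S j ≤ S i))
    else Algebra.TensorProduct.includeRight.comp (Subalgebra.inclusion (hM j h)))
  obtain ⟨ψ', hψ', -⟩ := hcoprod _ φ
  let ψ : A →ₐ[R] S i ⊗[R] M := up.symm.toAlgHom.comp ψ'
  have hl : ∀ x : S i, ψ x = x ⊗ₜ[R] (1 : M) := fun x => by
    have h1 := hψ' i x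
    simp only [ψ, AlgHom.comp_apply, AlgEquiv.coe_toAlgHom, h1, φ, dif_pos,
      AlgEquiv.symm_apply_apply]
    rfl
  have hr : ∀ x : M, ψ x = (1 : S i) ⊗ₜ[R] x := by
    rintro ⟨x, hx⟩
    change ψ x = (Algebra.TensorProduct.includeRight : M →ₐ[R] S i ⊗[R] M) ⟨x, hx⟩
    induction hx using Algebra.adjoin_induction with
    | mem y hy =>
      simp only [Set.mem_iUnion] at hy
      obtain ⟨j, hj, hyj⟩ := hy
      have h1 := hψ' j ⟨y, hyj⟩
      simp only [ψ, AlgHom.comp_apply, AlgEquiv.coe_toAlgHom, h1, φ]
      rw [dif_neg hj]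
      simp [Subalgebra.inclusion]
    | algebraMap r => exact (ψ.commutes r).trans (AlgHom.commutes _ r).symm
    | add a b ha hb h1 h2 =>
      rw [map_add, h1, h2, ← map_add]; rfl
    | mul a b ha hb h1 h2 =>
      rw [map_mul, h1, h2, ← map_mul]; rfl
  have h1 : ψ.comp μ = AlgHom.id R _ := Algebra.TensorProduct.ext
    (AlgHom.ext fun x => by simp [μ, hl]) (AlgHom.ext fun x => by simp [μ, hr])
  have h2 : μ.comp ψ = AlgHom.id R A := by
    let upA : A ≃ₐ[R] ULift.{u} A := ULift.algEquiv.symm
    obtain ⟨χ, -, huniq⟩ := hcoprod (ULift.{u} A) (fun j => upA.toAlgHom.comp (S j).val)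
    have e : ∀ f : A →ₐ[R] A, (∀ j (x : S j), f x = x) → upA.toAlgHom.comp f = χ := fun f hf =>
      huniq _ fun j x => by simp [hf]
    have h3 : upA.toAlgHom.comp (μ.comp ψ) = upA.toAlgHom.comp (AlgHom.id R A) := by
      refine (e _ fun j x => ?_).trans (e _ fun j x => rfl).symm
      by_cases h : j = i
      · subst h; simp [hl, μ]
      · have := hr ⟨x, hM j h x.2⟩
        simp only [AlgHom.comp_apply, this]
        simp [μ]
    exact AlgHom.ext fun a => upA.injective (AlgHom.congr_fun h3 a)
  exact ⟨fun a b hab => by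
      rw [← AlgHom.id_apply (R := R) a, ← AlgHom.id_apply (R := R) b, ← h1]
      simp only [AlgHom.comp_apply]; exact congrArg ψ hab,
    fun a => ⟨ψ a, AlgHom.congr_fun h2 a⟩⟩

end Groth.Agent.Lib.WildCoprod.Basic
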